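import Groth.Agent.EtShSep.Model
import Mathlib

/-!
A quotient of an étale algebra over a polynomial ring in characteristic zero which admits a section and the
partial derivatives is smooth near the section (Euler derivation).
-/

set_option autoImplicit false
set_option maxHeartbeats 1600000
set_option synthInstance.maxHeartbeats 400000
set_option linter.style.haveILetI false

universe u

open scoped TensorProduct

noncomputable section

namespace Groth.Agent.EulerSmooth

/-- derivations agreeing on the base of a formally unramified algebra are equal -/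
theorem der_ext {A T Z M : Type u} [CommRing A] [CommRing T] [CommRing Z] [Algebra A T] [Algebra A Z] [Algebra T Z]
    [IsScalarTower A T Z] [Algebra.FormallyUnramified T Z] [AddCommGroup M] [Module Z M] [Module A M]
    [IsScalarTower A Z M] (d d' : Derivation A Z M) (h : ∀ t : T, d (algebraMap T Z t) = d' (algebraMap T Z t)) :
    d = d' := by
  letI : Module T M := Module.compHom M (algebraMap T Z)
  haveI : IsScalarTower T Z M := IsScalarTower.of_algebraMap_smul fun _ _ => rfl
  let e := d - d'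
  have he : ∀ t, e (algebraMap T Z t) = 0 := fun t => by simp [e, h t]
  let e' : Derivation T Z M := Derivation.mk'
    { toFun := e
      map_add' := map_add e
      map_smul' := fun t z => by
        rw [Algebra.smul_def, e.leibniz, he, smul_zero, add_zero]; rfl }
    (fun a b => e.leibniz a b)
  ext z
  refine sub_eq_zero.1 ?_
  show e' z = 0
  rw [show e' = 0 from (KaehlerDifferential.linearMapEquivDerivation T Z).symm.injective (Subsingleton.elim _ _)]
  rfl

/-- extension of the partial derivatives to a formally étale algebra over a polynomial ring -/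
def extDer (A : Type u) {Z : Type u} [CommRing A] [CommRing Z] {n : ℕ} [Algebra A Z] [Algebra (MvPolynomial (Fin n) A) Z]
    [IsScalarTower A (MvPolynomial (Fin n) A) Z] [Algebra.FormallyEtale (MvPolynomial (Fin n) A) Z] (i : Fin n) :
    Derivation A Z Z :=
  ((TensorProduct.AlgebraTensorModule.rid (MvPolynomial (Fin n) A) Z Z).toLinearMap.comp
    ((TensorProduct.AlgebraTensorModule.map (LinearMap.id (R := Z)) ((MvPolynomial.pderiv i).liftKaehlerDifferential)).comp
      (KaehlerDifferential.tensorKaehlerEquivOfFormallyEtale A (MvPolynomial (Fin n) A) Z).symm.toLinearMap)).compDer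
    (KaehlerDifferential.D A Z)

theorem extDer_algebraMap {A Z : Type u} [CommRing A] [CommRing Z] {n : ℕ} [Algebra A Z]
    [Algebra (MvPolynomial (Fin n) A) Z] [IsScalarTower A (MvPolynomial (Fin n) A) Z]
    [Algebra.FormallyEtale (MvPolynomial (Fin n) A) Z] (i : Fin n) (t : MvPolynomial (Fin n) A) :
    extDer A i (algebraMap _ Z t) = algebraMap _ Z (MvPolynomial.pderiv i t) := by
  simp [extDer, KaehlerDifferential.tensorKaehlerEquivOfFormallyEtale_symm_D_algebraMap, Algebra.smul_def]

/-- the Euler identity forces an ideal stable under derivations into all powers -/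
theorem le_pow_of_euler {D : Type u} [CommRing D] [Algebra ℚ D] {A : Type u} [CommRing A] [Algebra A D] {n : ℕ}
    (d : Fin n → Derivation A D D) (I : Ideal D) (x : Fin n → D) (hx : ∀ i, x i ∈ I)
    (hI : ∀ a ∈ I, a - ∑ i, x i * d i a ∈ I ^ 2) (J : Ideal D) (hJI : J ≤ I) (hJ : ∀ i, ∀ f ∈ J, d i f ∈ J)
    (m : ℕ) : J ≤ I ^ m := by
  let E : D → D := fun a => ∑ i, x i * d i a
  have hmul : ∀ a b, E (a * b) = a * E b + b * E a := fun a b => by
    simp only [E, Derivation.leibniz, smul_eq_mul, mul_add, Finset.sum_add_distrib, Finset.mul_sum]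
    congr 1 <;> exact Finset.sum_congr rfl fun i _ => by ring
  have hadd : ∀ a b, E (a + b) = E a + E b := fun a b => by
    simp only [E, map_add, mul_add, Finset.sum_add_distrib]
  have key : ∀ k : ℕ, ∀ u ∈ I ^ (k + 1), E u - (k + 1 : ℕ) • u ∈ I ^ (k + 2) := by
    intro k
    induction k with
    | zero =>
      intro u hu
      rw [pow_one] at hu
      have := hI u hu
      rw [one_nsmul, ← neg_sub]
      exact neg_mem this
    | succ k ih =>
      intro u hu
      rw [pow_succ] at hu
      refine Submodule.mul_induction_on hu (fun a ha b hb => ?_) (fun a b ha hb => ?_)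
      · rw [hmul, show a * E b + b * E a - (k + 1 + 1 : ℕ) • (a * b) =
          a * (E b - b) + b * (E a - (k + 1 : ℕ) • a) by simp only [nsmul_eq_mul, Nat.cast_add, Nat.cast_one]; ring]
        refine Submodule.add_mem _ ?_ ?_
        · have h1 : E b - b ∈ I ^ 2 := by rw [← neg_sub]; exact neg_mem (hI b hb)
          have := Ideal.mul_mem_mul ha h1
          rwa [← pow_add] at this
        · have := Ideal.mul_mem_mul hb (ih a ha)
          rwa [← pow_succ'] at this
      · rw [hadd, nsmul_add, add_sub_add_comm]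
        exact Submodule.add_mem _ ha hb
  induction m with
  | zero => simp
  | succ m ih =>
    rcases m with _ | m
    · rw [pow_one]; exact hJI
    intro f hf
    have h1 : E f ∈ I ^ (m + 2) := by
      refine Submodule.sum_mem _ fun i _ => ?_
      have := Ideal.mul_mem_mul (hx i) (ih (hJ i f hf))
      rwa [← pow_succ'] at this
    have h2 : (m + 1 : ℕ) • f ∈ I ^ (m + 2) := by
      have := Submodule.sub_mem _ h1 (key m f (ih hf))
      rwa [sub_sub_cancel] at this
    have hu : IsUnit ((m + 1 : ℕ) : D) := by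
      rw [← map_natCast (algebraMap ℚ D)]
      exact (IsUnit.mk0 _ (Nat.cast_ne_zero.2 (Nat.succ_ne_zero m))).map _
    rw [nsmul_eq_mul] at h2
    exact (Ideal.unit_mul_mem_iff_mem _ hu).1 h2

variable {A : Type u} [CommRing A] [Algebra ℚ A] {n : ℕ} {Z B : Type u} [CommRing Z] [CommRing B] [Algebra A Z]
  [Algebra A B] [Algebra (MvPolynomial (Fin n) A) Z] [Algebra (MvPolynomial (Fin n) A) B]
  [IsScalarTower A (MvPolynomial (Fin n) A) Z] [IsScalarTower A (MvPolynomial (Fin n) A) B]

/-- a Noetherian model of an étale algebra over a polynomial ring -/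
theorem exists_model [Algebra.Etale (MvPolynomial (Fin n) A) Z] (τ : Z →ₐ[A] A) (L : Finset Z) :
    ∃ (A₀ : Subalgebra ℚ A) (D₁ : Type u) (_ : CommRing D₁) (_ : Algebra (MvPolynomial (Fin n) A₀) D₁)
      (ι : D₁ →+* Z), IsNoetherianRing A₀ ∧ Algebra.Etale (MvPolynomial (Fin n) A₀) D₁ ∧ Function.Injective ι ∧
      (∀ t, ι (algebraMap _ D₁ t) = algebraMap (MvPolynomial (Fin n) A) Z (MvPolynomial.map A₀.val.toRingHom t)) ∧
      (∀ u, τ (ι u) ∈ A₀) ∧ ∀ z ∈ L, ∃ u, ι u = z := by
  classical
  let T := MvPolynomial (Fin n) A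
  obtain ⟨S₀, D₀, _, _, ⟨s₀, hs₀⟩, _, ⟨δ⟩⟩ := Algebra.Etale.exists_subalgebra_fg ℚ T Z
  obtain ⟨T₁, ⟨s₁, hs₁⟩, hT₁⟩ := Groth.Agent.EtShSep.exists_fg_range (A := T)
    (L.image δ)
  obtain ⟨sD, hsD⟩ := (Algebra.FiniteType.out : (⊤ : Subalgebra S₀ D₀).FG)
  let G : Finset A := ((s₀ ∪ s₁).biUnion fun t => t.support.image t.coeff) ∪
    (Finset.univ.image fun j => τ (algebraMap T Z (MvPolynomial.X j))) ∪
    sD.image fun d => τ (δ.symm (1 ⊗ₜ d))
  let A₀ := Algebra.adjoin ℚ (G : Set A)
  haveI : IsNoetherianRing A₀ := isNoetherianRing_of_fg ⟨G, rfl⟩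
  let T₀ := MvPolynomial (Fin n) A₀
  let j : T₀ →+* T := MvPolynomial.map A₀.val.toRingHom
  have hj : Function.Injective j := MvPolynomial.map_injective _ Subtype.val_injective
  let U : Subalgebra ℚ T := { j.range with algebraMap_mem' := fun q => ⟨algebraMap ℚ T₀ q, by
    rw [IsScalarTower.algebraMap_apply ℚ A₀ T₀, MvPolynomial.algebraMap_eq, MvPolynomial.map_C]
    show MvPolynomial.C (algebraMap ℚ A q) = _
    rw [IsScalarTower.algebraMap_apply ℚ A T, MvPolynomial.algebraMap_eq]⟩ }
  have hU : ∀ t ∈ s₀ ∪ s₁, t ∈ U := fun t ht => by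
    show t ∈ Set.range (MvPolynomial.map A₀.val.toRingHom : T₀ →+* T)
    rw [MvPolynomial.mem_range_map_iff_coeffs_subset]
    intro a ha
    obtain ⟨d, hd, rfl⟩ := MvPolynomial.mem_coeffs_iff.1 ha
    refine ⟨⟨_, Algebra.subset_adjoin (Finset.mem_coe.2 (Finset.mem_union_left _ (Finset.mem_union_left _
      (Finset.mem_biUnion.2 ⟨t, ht, Finset.mem_image_of_mem _ hd⟩))))⟩, rfl⟩
  have hS₀ : S₀ ≤ U := hs₀ ▸ Algebra.adjoin_le fun t ht => hU t (Finset.mem_union_left _ ht)
  let U' : Subalgebra S₀ T := { U.toSubsemiring with algebraMap_mem' := fun t => hS₀ t.2 }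
  have hT₁U : T₁ ≤ U' := hs₁ ▸ Algebra.adjoin_le fun t ht => hU t (Finset.mem_union_right _ ht)
  let inv : U →+* T₀ := (RingEquiv.ofBijective j.rangeRestrict
    ⟨fun a b h => hj (congrArg Subtype.val h), j.rangeRestrict_surjective⟩).symm.toRingHom.comp
      (U.val.toRingHom.codRestrict j.range fun t => t.2)
  have hinv : ∀ t : U, j (inv t) = (t : T) := fun t => congrArg Subtype.val
    ((RingEquiv.ofBijective j.rangeRestrict
      ⟨fun a b h => hj (congrArg Subtype.val h), j.rangeRestrict_surjective⟩).apply_symm_apply _)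
  letI : Algebra S₀ T₀ := (inv.comp (Subalgebra.inclusion hS₀).toRingHom).toAlgebra
  letI : Algebra T₀ T := j.toAlgebra
  haveI : IsScalarTower S₀ T₀ T := IsScalarTower.of_algebraMap_eq fun s => (hinv ⟨s, hS₀ s.2⟩).symm
  let jS : T₀ →ₐ[S₀] T := IsScalarTower.toAlgHom S₀ T₀ T
  let D₁ := T₀ ⊗[S₀] D₀
  let κ : D₁ →ₐ[S₀] T ⊗[S₀] D₀ := Algebra.TensorProduct.map jS (AlgHom.id S₀ D₀)
  haveI : Module.Flat S₀ D₀ := inferInstance
  have hκ : Function.Injective κ :=
    Module.Flat.rTensor_preserves_injective_linearMap (M := D₀) jS.toLinearMap hj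
  let ι : D₁ →+* Z := δ.symm.toRingHom.comp κ.toRingHom
  have hι : Function.Injective ι := δ.symm.injective.comp hκ
  have hιT : ∀ t : T₀, ι (algebraMap T₀ D₁ t) = algebraMap T Z (j t) := fun t => by
    show δ.symm (Algebra.TensorProduct.map jS (AlgHom.id S₀ D₀) (t ⊗ₜ 1)) = _
    rw [Algebra.TensorProduct.map_tmul, map_one]
    exact δ.symm.commutes (j t)
  have hσX : ∀ t : T₀, τ (algebraMap T Z (j t)) ∈ A₀ := fun t => by
    induction t using MvPolynomial.induction_on with
    | C a =>
      rw [MvPolynomial.map_C, ← MvPolynomial.algebraMap_eq, ← IsScalarTower.algebraMap_apply, τ.commutes]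
      exact a.2
    | add p q hp hq => simp only [map_add]; exact add_mem hp hq
    | mul_X p i hp =>
      show τ (algebraMap T Z (MvPolynomial.map A₀.val.toRingHom (p * MvPolynomial.X i))) ∈ A₀
      rw [map_mul, MvPolynomial.map_X, map_mul, map_mul]
      exact mul_mem hp (Algebra.subset_adjoin (Finset.mem_coe.2 (Finset.mem_union_left _
        (Finset.mem_union_right _ (Finset.mem_image_of_mem (fun j => τ (algebraMap T Z (MvPolynomial.X j))) (Finset.mem_univ i))))))
  have hσ : ∀ u : D₁, τ (ι u) ∈ A₀ := by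
    have hD₀ : ∀ d : D₀, τ (ι (1 ⊗ₜ d)) ∈ A₀ := fun d => by
      have hd' : d ∈ Algebra.adjoin S₀ (sD : Set D₀) := hsD ▸ Algebra.mem_top
      induction hd' using Algebra.adjoin_induction with
      | mem x hx =>
        show τ (δ.symm (Algebra.TensorProduct.map jS (AlgHom.id S₀ D₀) (1 ⊗ₜ x))) ∈ A₀
        rw [Algebra.TensorProduct.map_tmul, map_one]
        exact Algebra.subset_adjoin (Finset.mem_coe.2 (Finset.mem_union_right _ (Finset.mem_image_of_mem _ hx)))
      | algebraMap s =>
        rw [← Algebra.TensorProduct.tmul_one_eq_one_tmul, show (algebraMap S₀ T₀ s) ⊗ₜ[S₀] (1 : D₀) = algebraMap T₀ D₁ (algebraMap S₀ T₀ s) from rfl, hιT]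
        exact hσX _
      | add x y _ _ hx hy => rw [TensorProduct.tmul_add, map_add, map_add]; exact add_mem hx hy
      | mul x y _ _ hx hy =>
        rw [show (1 : T₀) ⊗ₜ[S₀] (x * y) = (1 ⊗ₜ x) * (1 ⊗ₜ y) by simp, map_mul, map_mul]
        exact mul_mem hx hy
    intro u
    induction u using TensorProduct.induction_on with
    | zero => rw [map_zero, map_zero]; exact zero_mem _
    | tmul t d =>
      rw [show t ⊗ₜ[S₀] d = algebraMap T₀ D₁ t * (1 ⊗ₜ d) by
        rw [show algebraMap T₀ D₁ t = t ⊗ₜ[S₀] (1 : D₀) from rfl, Algebra.TensorProduct.tmul_mul_tmul, mul_one, one_mul], map_mul, map_mul, hιT]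
      exact mul_mem (hσX t) (hD₀ d)
    | add x y hx hy => rw [map_add, map_add]; exact add_mem hx hy
  have hlift : ∀ z ∈ L, ∃ u, ι u = z := by
    intro z hz
    obtain ⟨w, hw⟩ := hT₁ (δ z) (Finset.mem_image_of_mem _ hz)
    let r : T₁ →+* T₀ := inv.comp (T₁.val.toRingHom.codRestrict U fun t => hT₁U t.2)
    suffices h : δ z ∈ κ.range by
      obtain ⟨u, hu⟩ := h
      exact ⟨u, by show δ.symm (κ u) = z; rw [show κ u = δ z from hu, δ.symm_apply_apply]⟩
    rw [← hw]
    clear hw
    induction w using TensorProduct.induction_on with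
    | zero => simp
    | tmul t d => exact ⟨r t ⊗ₜ d, by
        show Algebra.TensorProduct.map jS (AlgHom.id S₀ D₀) (r t ⊗ₜ d) = Algebra.TensorProduct.map T₁.val (AlgHom.id S₀ D₀) (t ⊗ₜ d)
        rw [Algebra.TensorProduct.map_tmul, Algebra.TensorProduct.map_tmul]
        show jS (r t) ⊗ₜ[S₀] d = _
        rw [show jS (r t) = (t : T) from hinv ⟨t, hT₁U t.2⟩]
        rfl⟩
    | add a b ha hb => rw [map_add]; exact add_mem ha hb
  exact ⟨A₀, D₁, inferInstance, inferInstance, ι, inferInstance, inferInstance, hι, hιT, hσ, hlift⟩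

/-- **The core.** -/
theorem exists_smooth_away [Algebra.Etale (MvPolynomial (Fin n) A) Z] (π : Z →ₐ[MvPolynomial (Fin n) A] B)
    (hπ : Function.Surjective π) (hker : (RingHom.ker π).FG) (dB : Fin n → Derivation A B B)
    (hdB : ∀ i j, dB i (algebraMap (MvPolynomial (Fin n) A) B (MvPolynomial.X j)) = if i = j then 1 else 0)
    (σ : B →ₐ[A] A) : ∃ h : B, σ h = 1 ∧ Algebra.Smooth A (Localization.Away h) := by
  classical
  let T := MvPolynomial (Fin n) A
  -- the ideal is stable
  letI : Algebra Z B := π.toRingHom.toAlgebra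
  haveI : IsScalarTower T Z B := IsScalarTower.of_algebraMap_eq fun t => (π.commutes t).symm
  haveI : IsScalarTower A Z B := IsScalarTower.of_algebraMap_eq fun a => by
    rw [IsScalarTower.algebraMap_apply A T B, IsScalarTower.algebraMap_apply A T Z, ← IsScalarTower.algebraMap_apply T Z B]
  have hcomm : ∀ i z, π (extDer A i z) = dB i (π z) := by
    intro i
    have h := der_ext (T := T) ((Algebra.linearMap Z B).compDer (extDer A i)) ((dB i).compAlgebraMap Z) (fun t => ?_)
    · exact fun z => Derivation.congr_fun h z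
    show π (extDer A i (algebraMap T Z t)) = dB i (π (algebraMap T Z t))
    rw [extDer_algebraMap, π.commutes, π.commutes]
    have h' : ((Algebra.linearMap T B).compDer (MvPolynomial.pderiv i) :
        Derivation A T B) = (dB i).compAlgebraMap T := MvPolynomial.derivation_ext fun j => by
      show algebraMap T B (MvPolynomial.pderiv i (MvPolynomial.X j)) = dB i (algebraMap T B (MvPolynomial.X j))
      rw [hdB, MvPolynomial.pderiv_X]
      rcases eq_or_ne i j with rfl | hij
      · simp
      · simp [hij, Ne.symm hij]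
    exact Derivation.congr_fun h' t
  obtain ⟨F, hF⟩ := hker
  have hstab : ∀ i, ∀ f ∈ RingHom.ker π, extDer A i f ∈ RingHom.ker π := fun i f hf => by
    rw [RingHom.mem_ker, hcomm, RingHom.mem_ker.1 hf, map_zero]
  have hc : ∀ i, ∀ f ∈ F, ∃ c : Z → Z, extDer A i f = ∑ g ∈ F, c g * g := fun i f hf => by
    have := hstab i f (hF.le (Submodule.subset_span hf))
    rw [← hF, Submodule.mem_span_finset] at this
    obtain ⟨c, -, hc⟩ := this
    exact ⟨c, hc.symm⟩
  choose! c hc using hc
  obtain ⟨A₀, D₁, _, _, ι, _, _, hι, hιT, hσ, hlift⟩ := exists_model (n := n) (σ.comp (π.restrictScalars A))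
    (F ∪ (Finset.univ.product (F.product F)).image fun p => c p.1 p.2.1 p.2.2)
  let T₀ := MvPolynomial (Fin n) A₀
  letI : Algebra A₀ D₁ := ((algebraMap T₀ D₁).comp (algebraMap A₀ T₀)).toAlgebra
  haveI : IsScalarTower A₀ T₀ D₁ := IsScalarTower.of_algebraMap_eq fun _ => rfl
  letI : Algebra D₁ Z := ι.toAlgebra
  haveI : IsScalarTower A₀ D₁ Z := IsScalarTower.of_algebraMap_eq fun a => by
    refine Eq.trans ?_ (congrArg ι (IsScalarTower.algebraMap_apply A₀ T₀ D₁ a)).symm
    rw [hιT, MvPolynomial.algebraMap_eq, MvPolynomial.map_C, ← MvPolynomial.algebraMap_eq,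
      ← IsScalarTower.algebraMap_apply A T Z]
    rfl
  have hd : ∀ (i : Fin n) (u : D₁), ι (extDer A₀ i u) = extDer A i (ι u) := by
    intro i u
    refine Derivation.congr_fun (der_ext (T := T₀) ((Algebra.linearMap D₁ Z).compDer (extDer A₀ i))
      (((extDer A (Z := Z) i).restrictScalars A₀).compAlgebraMap D₁) fun t => ?_) u
    show ι (extDer A₀ i (algebraMap T₀ D₁ t)) = extDer A i (ι (algebraMap T₀ D₁ t))
    rw [extDer_algebraMap, hιT, hιT, extDer_algebraMap, MvPolynomial.pderiv_map]
  let σ₀ : D₁ →ₐ[A₀] A₀ :=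
    { (σ.toRingHom.comp (π.toRingHom.comp ι)).codRestrict A₀ hσ with
      commutes' := fun a => Subtype.ext (by
        show σ (π (ι (algebraMap A₀ D₁ a))) = a
        rw [IsScalarTower.algebraMap_apply A₀ T₀ D₁, hιT, MvPolynomial.algebraMap_eq, MvPolynomial.map_C,
          ← MvPolynomial.algebraMap_eq, π.commutes, ← IsScalarTower.algebraMap_apply, σ.commutes]
        rfl) }
  let I : Ideal D₁ := RingHom.ker σ₀
  let x : Fin n → D₁ := fun i => algebraMap T₀ D₁ (MvPolynomial.X i) -
    algebraMap A₀ D₁ (σ₀ (algebraMap T₀ D₁ (MvPolynomial.X i)))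
  have hx : ∀ i, x i ∈ I := fun i => RingHom.mem_ker.2 (by simp [x])
  let e : D₁ → D₁ := fun u => u - algebraMap A₀ D₁ (σ₀ u) - ∑ i, x i * extDer A₀ i u
  have he : ∀ u, e u ∈ I := fun u => RingHom.mem_ker.2 (by
    simp [e, RingHom.mem_ker.1 (hx _)])
  let eta : Derivation A₀ D₁ I.Cotangent := Derivation.mk'
    { toFun := fun u => I.toCotangent ⟨e u, he u⟩
      map_add' := fun u v => by
        rw [← map_add]
        refine congrArg _ (Subtype.ext ?_)
        simp only [e, map_add, mul_add, Finset.sum_add_distrib, Submodule.coe_add]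
        ring
      map_smul' := fun a u => by
        rw [← LinearMap.map_smul_of_tower]
        refine congrArg _ (Subtype.ext ?_)
        simp only [e, map_smul, Derivation.map_smul, RingHom.id_apply, Submodule.coe_smul_of_tower, smul_sub,
          Finset.smul_sum, mul_smul_comm, smul_eq_mul]
        rw [Algebra.smul_def a (algebraMap A₀ D₁ (σ₀ u)), ← map_mul]
        }
    (fun u v => by
      show I.toCotangent ⟨e (u * v), he _⟩ = u • I.toCotangent ⟨e v, he v⟩ + v • I.toCotangent ⟨e u, he u⟩
      rw [← map_smul, ← map_smul, ← map_add, Ideal.toCotangent_eq]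
      show e (u * v) - (u * e v + v * e u) ∈ I ^ 2
      have : e (u * v) - (u * e v + v * e u) = -((u - algebraMap A₀ D₁ (σ₀ u)) * (v - algebraMap A₀ D₁ (σ₀ v))) := by
        have hs : ∑ i, x i * extDer A₀ i (u * v) = u * (∑ i, x i * extDer A₀ i v) + v * ∑ i, x i * extDer A₀ i u := by
          simp only [Derivation.leibniz, smul_eq_mul, mul_add, Finset.sum_add_distrib, Finset.mul_sum]
          congr 1 <;> exact Finset.sum_congr rfl fun i _ => by ring
        simp only [e, map_mul, hs]
        ring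
      rw [this, pow_two]
      exact neg_mem (Ideal.mul_mem_mul (RingHom.mem_ker.2 (by simp)) (RingHom.mem_ker.2 (by simp))))
  have heta : eta = 0 := der_ext (T := T₀) _ _ fun t => by
    have h : eta.compAlgebraMap T₀ = 0 := MvPolynomial.derivation_ext fun i => by
      show I.toCotangent ⟨e (algebraMap T₀ D₁ (MvPolynomial.X i)), he _⟩ = (0 : I.Cotangent)
      rw [Ideal.toCotangent_eq_zero]
      show e _ ∈ I ^ 2
      have hX : ∀ k, extDer A₀ k (algebraMap T₀ D₁ (MvPolynomial.X i)) = if k = i then 1 else 0 := fun k => by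
        rw [extDer_algebraMap, MvPolynomial.pderiv_X]
        rcases eq_or_ne k i with rfl | hk
        · simp
        · simp [hk, Ne.symm hk]
      have : e (algebraMap T₀ D₁ (MvPolynomial.X i)) = 0 := by
        show _ - _ - ∑ k, x k * extDer A₀ k (algebraMap T₀ D₁ (MvPolynomial.X i)) = 0
        simp only [hX, mul_ite, mul_one, mul_zero, Finset.sum_ite_eq', Finset.mem_univ, if_true]
        simp [x]
      rw [this]; exact zero_mem _
    exact Derivation.congr_fun h t
  have hEuler : ∀ u ∈ I, u - ∑ i, x i * extDer A₀ i u ∈ I ^ 2 := fun u hu => by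
    have h1 : I.toCotangent ⟨e u, he u⟩ = 0 := Derivation.congr_fun heta u
    rw [Ideal.toCotangent_eq_zero] at h1
    have h2 : e u = u - ∑ i, x i * extDer A₀ i u := by simp [e, RingHom.mem_ker.1 hu]
    rw [← h2]
    exact h1
  have hF' : ∀ f ∈ F, ∃ u, ι u = f := fun f hf => hlift f (Finset.mem_union_left _ hf)
  choose! f₀ hf₀ using hF'
  let J : Ideal D₁ := Ideal.span (f₀ '' (F : Set Z))
  have hJI : J ≤ I := Ideal.span_le.2 fun u hu => by
    obtain ⟨f, hf, rfl⟩ := hu
    refine RingHom.mem_ker.2 (Subtype.ext ?_)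
    show σ (π (ι (f₀ f))) = 0
    rw [hf₀ f hf, RingHom.mem_ker.1 (hF.le (Submodule.subset_span hf)), map_zero]
  have hJ : ∀ (i : Fin n), ∀ u ∈ J, extDer A₀ i u ∈ J := fun i u hu => by
    induction hu using Submodule.span_induction with
    | zero => simp
    | add a b _ _ ha hb => rw [map_add]; exact add_mem ha hb
    | smul r a ha' ha =>
      rw [smul_eq_mul, Derivation.leibniz, smul_eq_mul, smul_eq_mul]
      exact add_mem (Ideal.mul_mem_left _ _ ha) (Ideal.mul_mem_right _ _ ha')
    | mem u hu =>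
      obtain ⟨f, hf, rfl⟩ := hu
      have hc' : ∀ g ∈ F, ∃ v, ι v = c i f g := fun g hg => hlift _ (Finset.mem_union_right _
        (Finset.mem_image.2 ⟨(i, f, g), Finset.mem_product.2 ⟨Finset.mem_univ _, Finset.mem_product.2 ⟨hf, hg⟩⟩, rfl⟩))
      choose! c₀ hc₀ using hc'
      rw [show extDer A₀ i (f₀ f) = ∑ g ∈ F, c₀ g * f₀ g from hι (by
        rw [hd, hf₀ f hf, hc i f hf, map_sum]
        exact Finset.sum_congr rfl fun g hg => by rw [map_mul, hc₀ g hg, hf₀ g hg])]
      exact Submodule.sum_mem _ fun g hg => Ideal.mul_mem_left _ _ (Ideal.subset_span ⟨g, hg, rfl⟩)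
  haveI : Algebra.FiniteType T₀ D₁ := inferInstance
  haveI : IsNoetherianRing D₁ := Algebra.FiniteType.isNoetherianRing T₀ D₁
  letI : Algebra ℚ D₁ := ((algebraMap A₀ D₁).comp (algebraMap ℚ A₀)).toAlgebra
  have hr : ∀ f ∈ F, ∃ r ∈ I, r * f₀ f = f₀ f := fun f hf => by
    have h : f₀ f ∈ ⨅ m : ℕ, I ^ m • (⊤ : Submodule D₁ D₁) := Submodule.mem_iInf _ |>.2 fun m => by
      rw [smul_eq_mul, Ideal.mul_top]
      exact le_pow_of_euler (fun i => extDer A₀ i) I x hx hEuler J hJI hJ m (Ideal.subset_span ⟨f, hf, rfl⟩)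
    obtain ⟨r, hr⟩ := (Ideal.mem_iInf_smul_pow_eq_bot_iff I (f₀ f)).1 h
    exact ⟨r, r.2, hr⟩
  choose! r hrI hr using hr
  let w : Z := ι (∏ f ∈ F, (1 - r f))
  refine ⟨π w, ?_, ?_⟩
  · show ((σ₀ (∏ f ∈ F, (1 - r f)) : A₀) : A) = 1
    rw [map_prod, Finset.prod_eq_one fun f hf => by simp [RingHom.mem_ker.1 (hrI f hf)]]
    rfl
  -- the localisation is étale over the polynomial ring
  have hloc : IsLocalization.Away w (Localization.Away (π w)) := by
    refine IsLocalization.Away.mk w (IsLocalization.Away.algebraMap_isUnit (π w)) (fun z => ?_) (fun a b hab => ?_)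
    · obtain ⟨k, b, hb⟩ := IsLocalization.Away.surj (π w) z
      obtain ⟨b, rfl⟩ := hπ b
      exact ⟨k, b, hb⟩
    · obtain ⟨k, hk⟩ := IsLocalization.Away.exists_of_eq (π w) hab
      refine ⟨k + 1, ?_⟩
      rw [pow_succ, mul_comm _ w, mul_assoc, mul_assoc, ← sub_eq_zero, ← mul_sub]
      have hmem : w ^ k * a - w ^ k * b ∈ RingHom.ker π := RingHom.mem_ker.2 (by
        rw [map_sub, map_mul, map_mul, map_pow, sub_eq_zero]; exact hk)
      rw [← hF] at hmem
      generalize w ^ k * a - w ^ k * b = v at hmem ⊢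
      induction hmem using Submodule.span_induction with
      | zero => simp
      | add p q _ _ hp hq => rw [mul_add, hp, hq, add_zero]
      | smul s p _ hp => rw [smul_eq_mul, mul_left_comm, hp, mul_zero]
      | mem f hf =>
        rw [← hf₀ f hf, ← map_mul, ← map_zero ι]
        refine congrArg ι ?_
        rw [← Finset.prod_erase_mul _ _ hf, mul_assoc, sub_mul, one_mul, hr f hf, sub_self, mul_zero]
  haveI : Algebra.FormallySmooth A (MvPolynomial (Fin n) A) := inferInstance
  haveI : Algebra.Smooth A T := ⟨inferInstance, inferInstance⟩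
  haveI : Algebra.Smooth T Z := inferInstance
  haveI : Algebra.Smooth A Z := Algebra.Smooth.comp A T Z
  haveI : Algebra.Smooth Z (Localization.Away (π w)) := Algebra.Smooth.of_isLocalization_Away w
  exact Algebra.Smooth.comp A Z (Localization.Away (π w))

end Groth.Agent.EulerSmooth
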