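import Groth.Agent.EulerSmooth.Core
import Mathlib

/-!
In characteristic zero an algebra with free differentials is smooth at the points of any section.
-/

set_option autoImplicit false
set_option maxHeartbeats 1600000
set_option synthInstance.maxHeartbeats 400000
set_option linter.style.haveILetI false

universe u

open scoped TensorProduct

attribute [local instance] MvPolynomial.algebraMvPolynomial

noncomputable section

namespace Groth.Agent.EulerSmooth

/-- coordinates near a prime for free differentials -/
theorem exists_coords {A B : Type u} [CommRing A] [CommRing B] [Algebra A B] [Algebra.FiniteType A B] (Q : Ideal B)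
    [Q.IsPrime] [Module.Free B Ω[B⁄A]] : ∃ (n : ℕ) (x : Fin n → B) (g : B) (d : Fin n → Derivation A B B),
      g ∉ Q ∧ (∀ i j, d i (x j) = if i = j then g else 0) ∧
      ∀ (M : Type u) [AddCommGroup M] [Module B M] (φ : Ω[B⁄A] →ₗ[B] M),
        (∀ j, φ (KaehlerDifferential.D A B (x j)) = 0) → ∀ ω, g • φ ω = 0 := by
  classical
  haveI : Nontrivial B := nontrivial_of_ne 0 1 fun h => (Ideal.ne_top_iff_one Q).1 ‹Q.IsPrime›.ne_top (h ▸ Q.zero_mem)
  let ι := Module.Free.ChooseBasisIndex B Ω[B⁄A]
  let b := Module.Free.chooseBasis B Ω[B⁄A]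
  let κ := Q.ResidueField
  let v : B → ι → κ := fun x i => algebraMap B κ (b.repr (KaehlerDifferential.D A B x) i)
  have hspan : ⊤ ≤ Submodule.span κ (Set.range v) := by
    intro w _
    have key : ∀ ω : Ω[B⁄A], (fun i => algebraMap B κ (b.repr ω i)) ∈ Submodule.span κ (Set.range v) := by
      intro ω
      have hω : ω ∈ Submodule.span B (Set.range (KaehlerDifferential.D A B)) := by
        rw [KaehlerDifferential.span_range_derivation]; trivial
      induction hω using Submodule.span_induction with
      | mem y hy => obtain ⟨x, rfl⟩ := hy; exact Submodule.subset_span ⟨x, rfl⟩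
      | zero => simp only [map_zero, Finsupp.coe_zero, Pi.zero_apply]; exact Submodule.zero_mem _
      | add y z _ _ hy hz => simp only [map_add, Finsupp.coe_add, Pi.add_apply]; exact Submodule.add_mem _ hy hz
      | smul r y _ hy =>
        simp only [map_smul, Finsupp.coe_smul, Pi.smul_apply, smul_eq_mul, map_mul]
        exact Submodule.smul_mem _ (algebraMap B κ r) hy
    rw [← (Pi.basisFun κ ι).sum_repr w]
    refine Submodule.sum_mem _ fun i _ => Submodule.smul_mem _ _ ?_
    convert key (b i) using 1
    funext j
    simp [Finsupp.single_apply, Pi.single_apply, eq_comm]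
  let bs := Module.Basis.ofSpan hspan
  let e := Fintype.equivFin ι
  have hsub := Module.Basis.ofSpan_subset hspan
  let bn := bs.reindex (bs.indexEquiv ((Pi.basisFun κ ι).reindex e))
  have hbn : ∀ j, ∃ x, v x = bn j := fun j => hsub ⟨(bs.indexEquiv ((Pi.basisFun κ ι).reindex e)).symm j,
    (Module.Basis.reindex_apply _ _ _).symm⟩
  choose x hx using hbn
  let n := Fintype.card ι
  let M : Matrix (Fin n) (Fin n) B := Matrix.of fun k j => b.repr (KaehlerDifferential.D A B (x j)) (e.symm k)
  have hdet : M.det ∉ Q := fun h => by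
    have h1 : (algebraMap B κ) M.det = 0 := Ideal.algebraMap_residueField_eq_zero.2 h
    rw [RingHom.map_det] at h1
    have h2 : (algebraMap B κ).mapMatrix M = ((Pi.basisFun κ ι).reindex e).toMatrix bn := by
      ext k j
      rw [Module.Basis.toMatrix_apply, Module.Basis.repr_reindex_apply, Pi.basisFun_repr, ← hx]
      rfl
    rw [h2] at h1
    have := congrArg Matrix.det (((Pi.basisFun κ ι).reindex e).toMatrix_mul_toMatrix_flip bn)
    rw [Matrix.det_mul, h1, zero_mul, Matrix.det_one] at this
    exact zero_ne_one this
  let coord : Fin n → (Ω[B⁄A] →ₗ[B] B) := fun k => b.coord (e.symm k)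
  refine ⟨n, x, M.det, fun i => (∑ k, M.adjugate i k • coord k).compDer (KaehlerDifferential.D A B), hdet,
    fun i j => ?_, fun N _ _ φ hφ ω => ?_⟩
  · show (∑ k, M.adjugate i k • coord k) (KaehlerDifferential.D A B (x j)) = _
    have := congrFun (congrFun M.adjugate_mul i) j
    rw [Matrix.mul_apply, Matrix.smul_apply, Matrix.one_apply, smul_eq_mul, mul_ite, mul_one, mul_zero] at this
    rw [LinearMap.sum_apply, ← this]
    rfl
  · have hb : ∀ k, M.det • φ (b (e.symm k)) = 0 := fun k => by
      have hM : ∀ j, ∑ l, M l j • φ (b (e.symm l)) = 0 := fun j => by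
        rw [← hφ j]
        conv_rhs => rw [← b.sum_repr (KaehlerDifferential.D A B (x j)), map_sum]
        rw [← Equiv.sum_comp e.symm (fun i => φ ((b.repr (KaehlerDifferential.D A B (x j)) i) • b i))]
        simp [M]; rfl
      have h3 : ∑ j, M.adjugate j k • ∑ l, M l j • φ (b (e.symm l)) = M.det • φ (b (e.symm k)) := by
        simp only [Finset.smul_sum, smul_smul]
        rw [Finset.sum_comm]
        simp only [← Finset.sum_smul]
        have : ∀ l, ∑ j, M.adjugate j k * M l j = if l = k then M.det else 0 := fun l => by
          have := congrFun (congrFun M.mul_adjugate l) k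
          rw [Matrix.mul_apply, Matrix.smul_apply, Matrix.one_apply, smul_eq_mul, mul_ite, mul_one, mul_zero] at this
          rw [← this]
          exact Finset.sum_congr rfl fun j _ => mul_comm _ _
        simp [this]
      rw [← h3]
      simp [hM]
    rw [← b.sum_repr ω, map_sum, Finset.smul_sum]
    refine Finset.sum_eq_zero fun i _ => ?_
    rw [map_smul, smul_comm, ← e.symm_apply_apply i, hb, smul_zero]

/-- extension of a derivation to a formally étale algebra -/
def locDer {A B C : Type u} [CommRing A] [CommRing B] [CommRing C] [Algebra A B] [Algebra A C] [Algebra B C]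
    [IsScalarTower A B C] [Algebra.FormallyEtale B C] (d : Derivation A B B) : Derivation A C C :=
  ((TensorProduct.AlgebraTensorModule.rid B C C).toLinearMap.comp
    ((TensorProduct.AlgebraTensorModule.map (LinearMap.id (R := C)) d.liftKaehlerDifferential).comp
      (KaehlerDifferential.tensorKaehlerEquivOfFormallyEtale A B C).symm.toLinearMap)).compDer
    (KaehlerDifferential.D A C)

theorem locDer_algebraMap {A B C : Type u} [CommRing A] [CommRing B] [CommRing C] [Algebra A B] [Algebra A C]
    [Algebra B C] [IsScalarTower A B C] [Algebra.FormallyEtale B C] (d : Derivation A B B) (t : B) :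
    locDer (C := C) d (algebraMap B C t) = algebraMap B C (d t) := by
  simp [locDer, KaehlerDifferential.tensorKaehlerEquivOfFormallyEtale_symm_D_algebraMap, Algebra.smul_def]

/-- the core after a localisation of the base -/
theorem exists_smooth_baseChange {A : Type u} [CommRing A] [Algebra ℚ A] {n : ℕ} (a : A) (A' : Type u) [CommRing A']
    [Algebra A A'] [IsLocalization.Away a A']
    {B : Type u} [CommRing B] [Algebra A B] (x : Fin n → B) (g : B) (d : Fin n → Derivation A B B)
    (hd : ∀ i j, d i (x j) = if i = j then g else 0)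
    {Z' : Type u} [CommRing Z'] [Algebra A Z'] [Algebra (MvPolynomial (Fin n) A) Z']
    [IsScalarTower A (MvPolynomial (Fin n) A) Z'] [Algebra.Etale (MvPolynomial (Fin n) A) Z']
    {B' : Type u} [CommRing B'] [Algebra A B'] [Algebra (MvPolynomial (Fin n) A) B']
    [IsScalarTower A (MvPolynomial (Fin n) A) B'] [Algebra B B'] [IsScalarTower A B B'] [Algebra.FormallyEtale B B']
    [Algebra.FinitePresentation A B']
    (huZ : IsUnit (algebraMap A Z' a)) (huB : IsUnit (algebraMap A B' a)) (hug : IsUnit (algebraMap B B' g))
    (hX : ∀ j, algebraMap (MvPolynomial (Fin n) A) B' (MvPolynomial.X j) = algebraMap B B' (x j))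
    (π₀ : Z' →ₐ[MvPolynomial (Fin n) A] B') (hπ : Function.Surjective π₀) (s' : B' →ₐ[A] A') :
    ∃ h : B', s' h = 1 ∧ Algebra.Smooth A (Localization.Away h) := by
  let T := MvPolynomial (Fin n) A
  let T' := MvPolynomial (Fin n) A'
  haveI : IsLocalization.Away (MvPolynomial.C a : T) T' := by
    have := MvPolynomial.isLocalization (σ := Fin n) (Submonoid.powers a) A'
    rwa [Submonoid.map_powers] at this
  haveI : Algebra.Etale T T' := Algebra.Etale.of_isLocalizationAway (MvPolynomial.C a)
  have huT : IsUnit (algebraMap T Z' (MvPolynomial.C a)) := by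
    rw [← MvPolynomial.algebraMap_eq, ← IsScalarTower.algebraMap_apply A T Z']; exact huZ
  have huT' : IsUnit (algebraMap T B' (MvPolynomial.C a)) := by
    rw [← MvPolynomial.algebraMap_eq, ← IsScalarTower.algebraMap_apply A T B']; exact huB
  letI : Algebra T' Z' := (IsLocalization.Away.lift (S := T') (MvPolynomial.C a) huT).toAlgebra
  letI : Algebra T' B' := (IsLocalization.Away.lift (S := T') (MvPolynomial.C a) huT').toAlgebra
  haveI : IsScalarTower T T' Z' := IsScalarTower.of_algebraMap_eq fun t => (IsLocalization.Away.lift_eq _ huT t).symm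
  haveI : IsScalarTower T T' B' := IsScalarTower.of_algebraMap_eq fun t => (IsLocalization.Away.lift_eq _ huT' t).symm
  letI : Algebra A' Z' := ((algebraMap T' Z').comp (algebraMap A' T')).toAlgebra
  letI : Algebra A' B' := ((algebraMap T' B').comp (algebraMap A' T')).toAlgebra
  haveI : IsScalarTower A' T' Z' := IsScalarTower.of_algebraMap_eq fun _ => rfl
  haveI : IsScalarTower A' T' B' := IsScalarTower.of_algebraMap_eq fun _ => rfl
  haveI : IsScalarTower A A' B' := IsScalarTower.of_algebraMap_eq fun r => by
    show algebraMap A B' r = algebraMap T' B' (algebraMap A' T' (algebraMap A A' r))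
    rw [← IsScalarTower.algebraMap_apply A A' T', IsScalarTower.algebraMap_apply A T T',
      ← IsScalarTower.algebraMap_apply T T' B', ← IsScalarTower.algebraMap_apply]
  haveI : Algebra.Etale T' Z' := Algebra.Etale.of_restrictScalars T T' Z'
  have hcomm : π₀.toRingHom.comp (algebraMap T' Z') = algebraMap T' B' :=
    IsLocalization.ringHom_ext (Submonoid.powers (MvPolynomial.C a : T)) (RingHom.ext fun t => by
      show π₀ (algebraMap T' Z' (algebraMap T T' t)) = algebraMap T' B' (algebraMap T T' t)
      rw [← IsScalarTower.algebraMap_apply, ← IsScalarTower.algebraMap_apply, π₀.commutes])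
  let π : Z' →ₐ[T'] B' := { π₀.toRingHom with commutes' := fun t => RingHom.congr_fun hcomm t }
  haveI : Algebra.FinitePresentation A A' := IsLocalization.Away.finitePresentation a
  haveI : Algebra.FiniteType A A' := inferInstance
  haveI : Algebra.FinitePresentation A' B' := Algebra.FinitePresentation.of_restrict_scalars_finitePresentation A A' B'
  haveI : Algebra.FinitePresentation A' T' := inferInstance
  haveI : Algebra.FinitePresentation T' Z' := inferInstance
  haveI : Algebra.FinitePresentation A' Z' := Algebra.FinitePresentation.trans A' T' Z'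
  have hker : (RingHom.ker π).FG :=
    Algebra.FinitePresentation.ker_fG_of_surjective (π.restrictScalars A') hπ
  let w : B' := ↑hug.unit⁻¹
  let dA : Fin n → Derivation A B' B' := fun i => w • locDer (d i)
  have hA' : ∀ i r, dA i (algebraMap A' B' r) = 0 := fun i r => by
    obtain ⟨k, b, hb⟩ := IsLocalization.Away.surj a r
    have := congrArg (fun z => dA i (algebraMap A' B' z)) hb
    simp only [map_mul, map_pow, ← IsScalarTower.algebraMap_apply] at this
    rw [Derivation.leibniz, Derivation.map_algebraMap, ← map_pow, Derivation.map_algebraMap, smul_zero, zero_add] at this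
    exact ((huB.pow k).smul_eq_zero).1 (by rwa [map_pow] at this)
  let dB : Fin n → Derivation A' B' B' := fun i => Derivation.mk'
    { toFun := dA i
      map_add' := map_add (dA i)
      map_smul' := fun r z => by
        rw [Algebra.smul_def, Derivation.leibniz, hA', smul_zero, add_zero]
        rfl }
    (fun p q => (dA i).leibniz p q)
  have hdB : ∀ i j, dB i (algebraMap T' B' (MvPolynomial.X j)) = if i = j then 1 else 0 := fun i j => by
    show w • locDer (d i) (algebraMap T' B' (MvPolynomial.X j)) = _
    rw [show (MvPolynomial.X j : T') = algebraMap T T' (MvPolynomial.X j) by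
      show _ = MvPolynomial.map (algebraMap A A') (MvPolynomial.X j)
      rw [MvPolynomial.map_X], ← IsScalarTower.algebraMap_apply, hX, locDer_algebraMap, hd, smul_eq_mul]
    split
    · exact hug.val_inv_mul
    · rw [map_zero, mul_zero]
  have hs'A : s'.toRingHom.comp (algebraMap A' B') = RingHom.id A' := IsLocalization.ringHom_ext (Submonoid.powers a)
    (RingHom.ext fun r => by
      show s' (algebraMap A' B' (algebraMap A A' r)) = algebraMap A A' r
      rw [← IsScalarTower.algebraMap_apply, s'.commutes])
  let σ' : B' →ₐ[A'] A' := { s'.toRingHom with commutes' := fun r => RingHom.congr_fun hs'A r }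
  letI : Algebra ℚ A' := ((algebraMap A A').comp (algebraMap ℚ A)).toAlgebra
  obtain ⟨h, hh, hsm⟩ := exists_smooth_away π hπ hker dB hdB σ'
  haveI := hsm
  haveI : Algebra.Smooth A A' := Algebra.Smooth.of_isLocalization_Away a
  exact ⟨h, hh, Algebra.Smooth.comp A A' (Localization.Away h)⟩

/-- smoothness at a prime from a smooth localisation -/
theorem isSmoothAt_of_away {A B B' : Type u} [CommRing A] [CommRing B] [CommRing B'] [Algebra A B] [Algebra A B']
    [Algebra B B'] [IsScalarTower A B B'] [Algebra.FormallyEtale B B'] (Q : Ideal B) [Q.IsPrime] (h : B')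
    [Algebra.Smooth A (Localization.Away h)] (t' : B' →+* Localization.AtPrime Q)
    (ht' : ∀ b, t' (algebraMap B B' b) = algebraMap B (Localization.AtPrime Q) b) (hth : IsUnit (t' h)) :
    Algebra.IsSmoothAt A Q := by
  let L := Localization.Away h
  haveI : Algebra.FormallyEtale B' L := Algebra.FormallyEtale.of_isLocalization (Submonoid.powers h)
  haveI : Algebra.FormallyEtale B L := Algebra.FormallyEtale.comp B B' L
  let BQ := Localization.AtPrime Q
  let tL : L →+* BQ := IsLocalization.Away.lift h hth
  letI : Algebra L BQ := tL.toAlgebra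
  haveI : IsScalarTower B L BQ := IsScalarTower.of_algebraMap_eq fun b => by
    show _ = tL _
    rw [IsScalarTower.algebraMap_apply B B' L, IsLocalization.Away.lift_eq, ht']
  haveI : IsScalarTower A L BQ := IsScalarTower.of_algebraMap_eq fun r => by
    rw [IsScalarTower.algebraMap_apply A B BQ, IsScalarTower.algebraMap_apply A B L,
      ← IsScalarTower.algebraMap_apply B L BQ]
  haveI : Algebra.FormallyEtale B BQ := Algebra.FormallyEtale.of_isLocalization Q.primeCompl
  haveI : Algebra.FormallyEtale L BQ := Algebra.FormallyEtale.of_restrictScalars (R := B)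
  exact Algebra.FormallySmooth.comp A L BQ

/-- **Free differentials give smoothness along sections in characteristic zero.** -/
theorem isSmoothAt_of_section {A B : Type u} [CommRing A] [Algebra ℚ A] [CommRing B] [Algebra A B]
    [Algebra.FinitePresentation A B] [Module.Free B Ω[B⁄A]] (σ : B →ₐ[A] A) (Q : Ideal B) [Q.IsPrime]
    (hQ : RingHom.ker σ ≤ Q) : Algebra.IsSmoothAt A Q := by
  classical
  obtain ⟨n, x, g, d, hg, hd, hkill⟩ := exists_coords (A := A) Q
  have hfix : ∀ b, b ∉ Q → algebraMap A B (σ b) ∉ Q := fun b hb h => hb (by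
    have := Q.sub_mem h (hQ (RingHom.mem_ker.2 (by simp : σ (algebraMap A B (σ b) - b) = 0)))
    rwa [sub_sub_cancel] at this)
  let T := MvPolynomial (Fin n) A
  let Bg := Localization.Away g
  letI : Algebra T Bg := ((algebraMap B Bg).comp (MvPolynomial.aeval x).toRingHom).toAlgebra
  haveI : IsScalarTower A T Bg := IsScalarTower.of_algebraMap_eq fun a => by
    show _ = algebraMap B Bg (MvPolynomial.aeval x (algebraMap A T a))
    rw [AlgHom.commutes, ← IsScalarTower.algebraMap_apply]
  haveI : Algebra.FiniteType A Bg := Algebra.FiniteType.trans (S := B) inferInstance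
    (by haveI : Algebra.FinitePresentation B Bg := IsLocalization.Away.finitePresentation g; infer_instance)
  haveI : Algebra.FiniteType T Bg := Algebra.FiniteType.of_restrictScalars_finiteType A T Bg
  haveI : Algebra.FormallyUnramified T Bg := by
    constructor
    let δ : Derivation A B Ω[Bg⁄T] := ((KaehlerDifferential.D T Bg).restrictScalars A).compAlgebraMap B
    have hφ : ∀ ω, g • δ.liftKaehlerDifferential ω = 0 := hkill _ δ.liftKaehlerDifferential fun j => by
      rw [Derivation.liftKaehlerDifferential_comp_D]
      show KaehlerDifferential.D T Bg (algebraMap B Bg (x j)) = 0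
      rw [show algebraMap B Bg (x j) = algebraMap T Bg (MvPolynomial.X j) by
        show algebraMap B Bg (x j) = algebraMap B Bg (MvPolynomial.aeval x (MvPolynomial.X j))
        rw [MvPolynomial.aeval_X], Derivation.map_algebraMap]
    have hB : ∀ b : B, KaehlerDifferential.D T Bg (algebraMap B Bg b) = 0 := fun b => by
      have := hφ (KaehlerDifferential.D A B b)
      rw [Derivation.liftKaehlerDifferential_comp_D] at this
      rw [← (IsLocalization.Away.algebraMap_isUnit (S := Bg) g).smul_eq_zero, IsScalarTower.algebraMap_smul]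
      exact this
    refine (subsingleton_iff_forall_eq (0 : Ω[Bg⁄T])).2 fun ω => ?_
    have hω : ω ∈ Submodule.span Bg (Set.range (KaehlerDifferential.D T Bg)) := by
      rw [KaehlerDifferential.span_range_derivation]; trivial
    induction hω using Submodule.span_induction with
    | zero => rfl
    | add y z _ _ hy hz => rw [hy, hz, add_zero]
    | smul r y _ hy => rw [hy, smul_zero]
    | mem y hy =>
      obtain ⟨c, rfl⟩ := hy
      obtain ⟨k, b, hb⟩ := IsLocalization.Away.surj g c
      have := congrArg (KaehlerDifferential.D T Bg) hb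
      rw [hB, Derivation.leibniz, ← map_pow (algebraMap B Bg), hB, smul_zero, zero_add] at this
      exact ((IsLocalization.Away.algebraMap_pow_isUnit (S := Bg) g k).smul_eq_zero).1 (by rwa [map_pow] at this)
  let Qg : Ideal Bg := Q.map (algebraMap B Bg)
  have hdisj : Disjoint (Submonoid.powers g : Set B) (Q : Set B) := Set.disjoint_left.2 fun y hy hyQ => by
    obtain ⟨k, rfl⟩ := hy
    exact hg (‹Q.IsPrime›.mem_of_pow_mem k hyQ)
  haveI : Qg.IsPrime := IsLocalization.isPrime_of_isPrime_disjoint (Submonoid.powers g) Bg Q ‹_› hdisj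
  haveI : Algebra.IsUnramifiedAt T Qg := Algebra.FormallyUnramified.comp T Bg _
  obtain ⟨f, hf, hP⟩ := Algebra.IsUnramifiedAt.exists_hasStandardEtaleSurjectionOn (R := T) Qg
  obtain ⟨k, fb, hfb⟩ := IsLocalization.Away.surj g f
  have hfbQ : fb ∉ Q := fun h => hf (by
    have h1 : f * algebraMap B Bg g ^ k ∈ Qg := hfb ▸ Ideal.mem_map_of_mem _ h
    exact (Ideal.mul_unit_mem_iff_mem Qg ((IsLocalization.Away.algebraMap_isUnit (S := Bg) g).pow k)).1 h1)
  let a := σ g * σ fb
  obtain ⟨P, φ, hφ⟩ := hP.of_dvd (g := f * algebraMap A Bg a) (dvd_mul_right _ _)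
  letI : Algebra A P.Ring := ((algebraMap T P.Ring).comp (algebraMap A T)).toAlgebra
  haveI : IsScalarTower A T P.Ring := IsScalarTower.of_algebraMap_eq fun _ => rfl
  let A' := Localization.Away a
  let B' := Localization.Away (f * algebraMap A Bg a)
  let Z' := Localization.Away (algebraMap A P.Ring a)
  haveI : Algebra.Etale P.Ring Z' := Algebra.Etale.of_isLocalizationAway (algebraMap A P.Ring a)
  haveI : Algebra.Etale T Z' := Algebra.Etale.comp T P.Ring Z'
  haveI : Algebra.FinitePresentation B Bg := IsLocalization.Away.finitePresentation g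
  haveI : Algebra.FinitePresentation A Bg := Algebra.FinitePresentation.trans A B Bg
  haveI : Algebra.FinitePresentation Bg B' := IsLocalization.Away.finitePresentation (f * algebraMap A Bg a)
  haveI : Algebra.FinitePresentation A B' := Algebra.FinitePresentation.trans A Bg B'
  haveI : Algebra.FormallyEtale B Bg := Algebra.FormallyEtale.of_isLocalization (Submonoid.powers g)
  haveI : Algebra.FormallyEtale Bg B' :=
    Algebra.FormallyEtale.of_isLocalization (Submonoid.powers (f * algebraMap A Bg a))
  haveI : Algebra.FormallyEtale B B' := Algebra.FormallyEtale.comp B Bg B'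
  have huZ : IsUnit (algebraMap A Z' a) :=
    (congrArg IsUnit (IsScalarTower.algebraMap_apply A P.Ring Z' a)).mpr
      (IsLocalization.Away.algebraMap_isUnit (algebraMap A P.Ring a))
  have huB : IsUnit (algebraMap A B' a) := by
    rw [IsScalarTower.algebraMap_apply A Bg B']
    refine isUnit_of_mul_isUnit_right (x := algebraMap Bg B' f) ?_
    rw [← map_mul]
    exact IsLocalization.Away.algebraMap_isUnit _
  have hψu : IsUnit (φ.toRingHom (algebraMap A P.Ring a)) := by
    show IsUnit (φ (algebraMap A P.Ring a))
    rw [IsScalarTower.algebraMap_apply A T P.Ring, φ.commutes, ← IsScalarTower.algebraMap_apply A T B']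
    exact huB
  let π₀ : Z' →+* B' := IsLocalization.Away.lift (algebraMap A P.Ring a) hψu
  have hπ₀ : ∀ z, π₀ (algebraMap P.Ring Z' z) = φ z := fun z => IsLocalization.Away.lift_eq _ hψu z
  let π₁ : Z' →ₐ[T] B' := { π₀ with commutes' := fun t => (by
      show π₀ (algebraMap T Z' t) = algebraMap T B' t
      rw [IsScalarTower.algebraMap_apply T P.Ring Z', hπ₀, φ.commutes]) }
  have hπ : Function.Surjective π₁ := fun y => by
    obtain ⟨z, hz⟩ := hφ y
    exact ⟨algebraMap P.Ring Z' z, (hπ₀ z).trans hz⟩
  have hug : IsUnit (algebraMap B B' g) :=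
    (congrArg IsUnit (IsScalarTower.algebraMap_apply B Bg B' g)).mpr
      ((IsLocalization.Away.algebraMap_isUnit g).map (algebraMap Bg B'))
  have hX : ∀ j, algebraMap T B' (MvPolynomial.X j) = algebraMap B B' (x j) := fun j => by
    rw [IsScalarTower.algebraMap_apply T Bg B', IsScalarTower.algebraMap_apply B Bg B']
    refine congrArg _ ?_
    show algebraMap B Bg (MvPolynomial.aeval x (MvPolynomial.X j)) = _
    rw [MvPolynomial.aeval_X]
  -- the section
  let s : B →+* A' := (algebraMap A A').comp σ.toRingHom
  have ha : IsUnit (algebraMap A A' (σ g)) ∧ IsUnit (algebraMap A A' (σ fb)) := by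
    rw [← IsUnit.mul_iff, ← map_mul]
    exact IsLocalization.Away.algebraMap_isUnit a
  let sg : Bg →+* A' := IsLocalization.Away.lift g (show IsUnit (s g) from ha.1)
  have hsg : ∀ b, sg (algebraMap B Bg b) = algebraMap A A' (σ b) := fun b => IsLocalization.Away.lift_eq _ _ b
  have hsgA : ∀ r, sg (algebraMap A Bg r) = algebraMap A A' r := fun r => by
    rw [IsScalarTower.algebraMap_apply A B Bg, hsg, σ.commutes]; rfl
  have hsfa : IsUnit (sg (f * algebraMap A Bg a)) := by
    rw [map_mul, hsgA]
    refine IsUnit.mul ?_ (IsLocalization.Away.algebraMap_isUnit a)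
    have h1 := congrArg sg hfb
    rw [map_mul, map_pow, hsg, hsg] at h1
    exact isUnit_of_mul_isUnit_left (h1 ▸ ha.2)
  let s' : B' →+* A' := IsLocalization.Away.lift (f * algebraMap A Bg a) hsfa
  have hs'g : ∀ y, s' (algebraMap Bg B' y) = sg y := fun y => IsLocalization.Away.lift_eq _ hsfa y
  let σ' : B' →ₐ[A] A' := { s' with commutes' := fun r => (by
      show s' (algebraMap A B' r) = algebraMap A A' r
      rw [IsScalarTower.algebraMap_apply A Bg B', hs'g, hsgA]) }
  obtain ⟨h, hh, hsm⟩ := exists_smooth_baseChange a A' x g d hd huZ huB hug hX π₁ hπ σ'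
  -- descent to the local ring
  haveI := hsm
  let BQ := Localization.AtPrime Q
  have huQ : ∀ b, b ∉ Q → IsUnit (algebraMap B BQ b) := fun b hb =>
    IsLocalization.map_units BQ (⟨b, hb⟩ : Q.primeCompl)
  let tg : Bg →+* BQ := IsLocalization.Away.lift g (huQ g hg)
  have htg : ∀ b, tg (algebraMap B Bg b) = algebraMap B BQ b := fun b => IsLocalization.Away.lift_eq _ _ b
  have haQ : algebraMap A B a ∉ Q := by
    rw [map_mul]
    exact ‹Q.IsPrime›.mul_notMem (hfix g hg) (hfix fb hfbQ)
  have htfa : IsUnit (tg (f * algebraMap A Bg a)) := by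
    rw [map_mul, IsScalarTower.algebraMap_apply A B Bg, htg]
    refine IsUnit.mul ?_ (huQ _ haQ)
    have h1 := congrArg tg hfb
    rw [map_mul, map_pow, htg, htg] at h1
    exact isUnit_of_mul_isUnit_left (h1 ▸ huQ fb hfbQ)
  let t' : B' →+* BQ := IsLocalization.Away.lift (f * algebraMap A Bg a) htfa
  have ht'g : ∀ y, t' (algebraMap Bg B' y) = tg y := fun y => IsLocalization.Away.lift_eq _ htfa y
  have ht' : ∀ b, t' (algebraMap B B' b) = algebraMap B BQ b := fun b => by
    rw [IsScalarTower.algebraMap_apply B Bg B', ht'g, htg]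
  have hth : IsUnit (t' h) := by
    obtain ⟨k₂, y, h₂⟩ := IsLocalization.Away.surj (f * algebraMap A Bg a) h
    obtain ⟨k₃, b, h₃⟩ := IsLocalization.Away.surj g y
    have hy : IsUnit (sg y) := by
      rw [← hs'g, ← h₂, map_mul, show s' h = 1 from hh, one_mul, map_pow, hs'g]
      exact hsfa.pow _
    have hb : b ∉ Q := fun hb => by
      have hu' : IsUnit (algebraMap A A' (σ b)) := by
        rw [← hsg, ← h₃, map_mul, map_pow, hsg]
        exact hy.mul (ha.1.pow _)
      obtain ⟨r, hr⟩ := hu'.exists_left_inv
      obtain ⟨m, c, hc⟩ := IsLocalization.Away.surj a r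
      have h5 : algebraMap A A' (c * σ b) = algebraMap A A' (a ^ m) := by
        rw [map_mul, ← hc, mul_right_comm, hr, one_mul, map_pow]
      obtain ⟨l, hl⟩ := IsLocalization.Away.exists_of_eq a h5
      have h6 : algebraMap A B c * b * algebraMap A B a ^ l - algebraMap A B a ^ (m + l) ∈ Q :=
        hQ (RingHom.mem_ker.2 (by
          rw [map_sub, map_mul, map_mul, map_pow, map_pow, σ.commutes, σ.commutes, sub_eq_zero, pow_add]
          calc _ = a ^ l * (c * σ b) := by
                show c * σ b * a ^ l = _
                ring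
            _ = _ := by rw [hl]; exact mul_comm _ _))
      have h7 := Q.sub_mem (Q.mul_mem_right (algebraMap A B a ^ l) (Q.mul_mem_left (algebraMap A B c) hb)) h6
      rw [sub_sub_cancel] at h7
      exact haQ (‹Q.IsPrime›.mem_of_pow_mem _ h7)
    have hty : IsUnit (tg y) := by
      refine isUnit_of_mul_isUnit_left (y := tg (algebraMap B Bg g) ^ k₃) ?_
      rw [← map_pow, ← map_mul, h₃, htg]
      exact huQ b hb
    rw [← ht'g, ← h₂, map_mul] at hty
    exact isUnit_of_mul_isUnit_left hty
  exact isSmoothAt_of_away Q h t' ht' hth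

end Groth.Agent.EulerSmooth
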