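import Groth.Agent.EulerSmooth.Ring
import Groth.Agent.LocFree.Props
import Groth.Agent.LocFree.Basic
import Groth.Agent.OmegaLib.FiniteType
import Groth.Agent.OmegaLib.Universal
import Groth.Agent.OmegaLib.Smooth
import Groth.Agent.InfLift.SmoothLift
import Groth.Agent.ExtFund.CanonOpen
import Groth.Agent.SGA6Ext.Pull
import Groth.Agent.RelGen.LocFreeLocal
import Groth.Prelude.Def_Omega2
import Mathlib

/-!
In residue characteristic zero a morphism with locally free differentials is smooth along any section.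
-/

set_option autoImplicit false
set_option maxHeartbeats 1600000
set_option synthInstance.maxHeartbeats 400000
set_option backward.isDefEq.respectTransparency false
set_option backward.isDefEq.respectTransparency.types false
set_option linter.style.haveILetI false

universe u

open CategoryTheory CategoryTheory.Limits AlgebraicGeometry TopologicalSpace

noncomputable section

namespace Groth.Agent.EulerSmooth

theorem exists_ratAlgebra {S : Scheme.{u}} (hS : ∀ x : S, CharZero (S.residueField x)) (V : S.Opens) :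
    Nonempty (Algebra ℚ Γ(S, V)) := by
  have hn : ∀ d : nonZeroDivisors ℤ, IsUnit ((Int.castRingHom Γ(S, V)) d) := by
    rintro ⟨d, hd⟩
    have : S.basicOpen ((d : Γ(S, V))) = V := by
      refine le_antisymm (S.basicOpen_le _) fun x hx => ?_
      rw [S.mem_basicOpen _ x hx, map_intCast]
      haveI := hS x
      by_contra h
      have h1 : S.residue x ((d : S.presheaf.stalk x)) = 0 := (IsLocalRing.residue_eq_zero_iff _).2 h
      rw [map_intCast, Int.cast_eq_zero] at h1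
      exact nonZeroDivisors.ne_zero hd h1
    have h2 := AlgebraicGeometry.RingedSpace.isUnit_res_basicOpen (X := S.toRingedSpace) (U := V) ((d : Γ(S, V)))
    have h3 : IsUnit (S.presheaf.map (eqToHom this.symm).op ((S.presheaf.map (homOfLE (S.basicOpen_le (d : Γ(S, V)))).op) (d : Γ(S, V)))) :=
      h2.map _
    rwa [← ConcreteCategory.comp_apply, ← Functor.map_comp, map_intCast] at h3
  exact ⟨(IsLocalization.lift (M := nonZeroDivisors ℤ) (S := ℚ) hn).toAlgebra⟩

variable {S G : Scheme.{u}}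

theorem appLE_id (h : S ⟶ S) (hh : h = 𝟙 S) {V : S.Opens} (le : V ≤ h ⁻¹ᵁ V) (a : Γ(S, V)) :
    h.appLE V V le a = a := by
  subst hh
  simp [Scheme.Hom.appLE]
  exact congr($(S.presheaf.map_id (Opposite.op V)) a)

theorem mem_smoothLocus_of_section (hS : ∀ x : S, CharZero (S.residueField x)) (f : G ⟶ S) [QuasiSeparated f]
    (e : S ⟶ G) (he : e ≫ f = 𝟙 S) (hΩ : FlatMod.IsFinLocFree (Omega.sheaf f)) (W : G.Opens)
    [LocallyOfFinitePresentation (W.ι ≫ f)] (p : S) (hp : e p ∈ W) :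
    (⟨e p, hp⟩ : W.toScheme) ∈ (W.ι ≫ f).smoothLocus := by
  set g := W.ι ≫ f
  obtain ⟨O, m, hO, ⟨φ⟩⟩ := hΩ (e p)
  have hfe : ∀ q, f (e q) = q := fun q => by rw [← Scheme.Hom.comp_apply, he]; rfl
  obtain ⟨_, ⟨V₀, hV₀, rfl⟩, hpV₀, -⟩ := S.isBasis_affineOpens.exists_subset_of_mem_open (Set.mem_univ p) isOpen_univ
  obtain ⟨_, ⟨U₀, hU₀, rfl⟩, hpU₀, hU₀s⟩ := G.isBasis_affineOpens.exists_subset_of_mem_open
    (show e p ∈ ((O ⊓ W ⊓ f ⁻¹ᵁ V₀ : G.Opens) : Set G) from ⟨⟨hO, hp⟩, by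
      show f (e p) ∈ V₀
      rw [hfe]; exact hpV₀⟩) (O ⊓ W ⊓ f ⁻¹ᵁ V₀).isOpen
  obtain ⟨r, hr, hpr⟩ := hV₀.exists_basicOpen_le (V := V₀ ⊓ e ⁻¹ᵁ U₀) ⟨p, hpV₀, hpU₀⟩ hpV₀
  let V := S.basicOpen r
  have hU₀V : U₀ ≤ f ⁻¹ᵁ V₀ := fun y hy => (hU₀s hy).2
  let U := G.basicOpen (f.appLE V₀ U₀ hU₀V r)
  have hUeq : U = U₀ ⊓ f ⁻¹ᵁ V := by
    rw [show U = G.basicOpen (f.appLE V₀ U₀ hU₀V r) from rfl, Scheme.Hom.appLE, ConcreteCategory.comp_apply,
      Scheme.basicOpen_res, ← Scheme.preimage_basicOpen]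
  have hV : IsAffineOpen V := hV₀.basicOpen r
  have hU : IsAffineOpen U := hU₀.basicOpen _
  have hUV : U ≤ f ⁻¹ᵁ V := hUeq.le.trans inf_le_right
  have hUO : U ≤ O := fun y hy => (hU₀s ((hUeq.le hy).1)).1.1
  have hUW : U ≤ W := fun y hy => (hU₀s ((hUeq.le hy).1)).1.2
  have hVe : V ≤ e ⁻¹ᵁ U := fun q hq => hUeq.ge ⟨(hr hq).2, by show f (e q) ∈ V; rw [hfe]; exact hq⟩
  let A := Γ(S, V)
  let B := Γ(G, U)
  letI : Algebra A B := (f.appLE V U hUV).hom.toAlgebra
  obtain ⟨hQ⟩ := exists_ratAlgebra hS V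
  letI := hQ
  -- finite presentation
  have hU' : IsAffineOpen (W.ι ⁻¹ᵁ U) := hU.preimage_of_isOpenImmersion W.ι (by rw [Scheme.Opens.opensRange_ι]; exact hUW)
  have hU'V : W.ι ⁻¹ᵁ U ≤ g ⁻¹ᵁ V := fun y hy => hUV hy
  haveI : IsIso (W.ι.appLE U (W.ι ⁻¹ᵁ U) le_rfl) := by
    rw [← Scheme.Hom.app_eq_appLE]
    exact Scheme.Hom.isIso_app W.ι U (by rw [Scheme.Opens.opensRange_ι]; exact hUW)
  have hfac : g.appLE V (W.ι ⁻¹ᵁ U) hU'V = f.appLE V U hUV ≫ W.ι.appLE U (W.ι ⁻¹ᵁ U) le_rfl :=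
    (Scheme.Hom.appLE_comp_appLE W.ι f _ _ _ _ _).symm
  haveI : Algebra.FinitePresentation A B := by
    have h1 := g.finitePresentation_appLE hV hU' hU'V
    rw [hfac, CommRingCat.hom_comp] at h1
    exact (RingHom.finitePresentation_respectsIso.cancel_right_isIso (f.appLE V U hUV) (W.ι.appLE U (W.ι ⁻¹ᵁ U) le_rfl)).1 h1
  -- free differentials
  haveI : Module.Free B Ω[B⁄A] := by
    obtain ⟨T, hT, -⟩ := OmegaLib.exists_sectEquiv (e := hUV) (OmegaLib.isUniversal_dOmega f) hU hV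
    haveI := (LocFree.free_sections_of_le φ hU hUO).1
    exact Module.Free.of_equiv ({ T with map_smul' := hT } : Γ(Omega.sheaf f, U) ≃ₗ[B] Ω[B⁄A])
  -- the section
  let σ : B →ₐ[A] A :=
    { (e.appLE U V hVe).hom with
      commutes' := fun a => (by
        show (f.appLE V U hUV ≫ e.appLE U V hVe) a = a
        rw [Scheme.Hom.appLE_comp_appLE]
        exact appLE_id (e ≫ f) he _ a) }
  let Q := hU.primeIdealOf ⟨e p, hVe hpr⟩
  have hσQ : RingHom.ker σ ≤ Q.asIdeal := fun b hb => by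
    have h1 : e.appLE U V hVe b = 0 := hb
    simp only [Q, hU.primeIdealOf_eq_map_closedPoint]
    show G.presheaf.germ U (e p) _ b ∈ IsLocalRing.maximalIdeal _
    intro hu
    have h2 : p ∈ S.basicOpen (e.appLE U V hVe b) := by
      rw [Scheme.Hom.appLE, ConcreteCategory.comp_apply, Scheme.basicOpen_res, ← Scheme.preimage_basicOpen]
      exact ⟨hpr, (G.mem_basicOpen b (e p) (hVe hpr)).2 hu⟩
    rw [h1, Scheme.basicOpen_zero] at h2
    exact h2
  have hsm : Algebra.IsSmoothAt A Q.asIdeal := isSmoothAt_of_section σ Q.asIdeal hσQ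
  have hstalk : (f.stalkMap (e p)).hom.FormallySmooth :=
    (formallySmooth_stalkMap_iff V hV U hU hUV (hVe hpr)).2 hsm
  rw [Scheme.Hom.mem_smoothLocus, Scheme.Hom.stalkMap_comp, CommRingCat.hom_comp]
  exact (RingHom.FormallySmooth.respectsIso.cancel_right_isIso _ _).2 hstalk

end Groth.Agent.EulerSmooth
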